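import Groth.Agent.Quiet29.Tower
import Mathlib.AlgebraicGeometry.AffineScheme
import Mathlib.RingTheory.RingHom.FaithfullyFlat
import Mathlib.RingTheory.Regular.Flat

/-!
Extractions of roots of Frobenius pass to quotients.
-/

set_option autoImplicit false
universe u

open CategoryTheory AlgebraicGeometry
open scoped TensorProduct

namespace Groth.Agent.Quiet20

/-- A root extraction of Frobenius on a localisation descends to quotient rings. -/
theorem isRootExt_quot (p : ℕ) [hp : Fact p.Prime] {R : Type u} [CommRing R] [CharP R p] (I : Ideal R) (f : R)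
    [CharP (Localization.Away f) p] {n : ℕ} (x : Fin n → Localization.Away f)
    (hx : Quiet29.IsRootExt p (frobenius (Localization.Away f) p) x x)
    {B₁ B₂ : Type u} [CommRing B₁] [CommRing B₂] [Algebra (R ⧸ I) B₁]
    [Algebra (R ⧸ I.map (frobenius R p)) B₂] [IsLocalization.Away (Ideal.Quotient.mk I f) B₁]
    [IsLocalization.Away (Ideal.Quotient.mk (I.map (frobenius R p)) (f ^ p)) B₂] (φ : B₁ →+* B₂)
    (hφ : ∀ a : R, φ (algebraMap _ B₁ (Ideal.Quotient.mk I a)) =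
      algebraMap _ B₂ (Ideal.Quotient.mk (I.map (frobenius R p)) (a ^ p))) :
    ∃ (x₁ : Fin n → B₁) (y : Fin n → B₂), Quiet29.IsRootExt p φ x₁ y := by
  let J := I.map (frobenius R p)
  let b₁ : R →+* B₁ := (algebraMap (R ⧸ I) B₁).comp (Ideal.Quotient.mk I)
  let b₂ : R →+* B₂ := (algebraMap (R ⧸ J) B₂).comp (Ideal.Quotient.mk J)
  have h₁ : IsUnit (b₁ f) := IsLocalization.Away.algebraMap_isUnit (S := B₁) (Ideal.Quotient.mk I f)
  have h₂ : IsUnit (b₂ f) := (isUnit_pow_iff hp.out.ne_zero).1 (by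
    rw [← map_pow]; exact IsLocalization.Away.algebraMap_isUnit (S := B₂) (Ideal.Quotient.mk J (f ^ p)))
  let p₁ : Localization.Away f →+* B₁ := IsLocalization.Away.lift f h₁
  let p₂ : Localization.Away f →+* B₂ := IsLocalization.Away.lift f h₂
  have hp₁ : ∀ a, p₁ (algebraMap R _ a) = b₁ a := IsLocalization.Away.lift_eq f h₁
  have hp₂ : ∀ a, p₂ (algebraMap R _ a) = b₂ a := IsLocalization.Away.lift_eq f h₂
  have hcomm : φ.comp p₁ = p₂.comp (frobenius (Localization.Away f) p) :=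
    IsLocalization.ringHom_ext (Submonoid.powers f) (RingHom.ext fun a => by
      show φ (p₁ (algebraMap R _ a)) = p₂ (algebraMap R _ a ^ p)
      rw [← map_pow, hp₁, hp₂]
      exact hφ a)
  refine ⟨p₁ ∘ x, p₂ ∘ x, fun i => ?_, fun C _ γ c hc => ?_⟩
  · show p₂ (x i) ^ p = φ.comp p₁ (x i)
    rw [hcomm, ← map_pow]
    rfl
  obtain ⟨ψ, ⟨hψ, hψx⟩, huniq⟩ := hx.2 C (γ.comp p₁) c hc
  have hψp : ∀ a : R, ψ (algebraMap R _ a) ^ p = γ (b₁ a) := fun a => by
    rw [← map_pow, ← hp₁]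
    exact RingHom.congr_fun hψ _
  let ψ₀ : R →+* C := ψ.comp (algebraMap R _)
  have hJ : ∀ a ∈ J, ψ₀ a = 0 := fun a ha => by
    have hle : J ≤ RingHom.ker ψ₀ := Ideal.map_le_iff_le_comap.2 fun i hi => by
      show ψ₀ (i ^ p) = 0
      rw [map_pow]
      show ψ (algebraMap R _ i) ^ p = 0
      rw [hψp, show b₁ i = 0 by simp [b₁, Ideal.Quotient.eq_zero_iff_mem.2 hi], map_zero]
    exact hle ha
  let ψ₁ : R ⧸ J →+* C := Ideal.Quotient.lift J ψ₀ hJ
  have hu : IsUnit (ψ₁ (Ideal.Quotient.mk J (f ^ p))) := by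
    show IsUnit (ψ₀ (f ^ p))
    rw [map_pow]
    show IsUnit (ψ (algebraMap R _ f) ^ p)
    rw [hψp]
    exact h₁.map γ
  let F : B₂ →+* C := IsLocalization.Away.lift (Ideal.Quotient.mk J (f ^ p)) hu
  have hF : ∀ a : R, F (b₂ a) = ψ (algebraMap R _ a) := fun a =>
    IsLocalization.Away.lift_eq (Ideal.Quotient.mk J (f ^ p)) hu _
  have hFp : F.comp p₂ = ψ :=
    IsLocalization.ringHom_ext (Submonoid.powers f) (RingHom.ext fun a => by
      show F (p₂ (algebraMap R _ a)) = ψ (algebraMap R _ a)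
      rw [hp₂, hF])
  refine ⟨F, ⟨?_, fun i => ?_⟩, fun G ⟨hG, hGx⟩ => ?_⟩
  · refine IsLocalization.ringHom_ext (Submonoid.powers (Ideal.Quotient.mk I f))
      (Ideal.Quotient.ringHom_ext (RingHom.ext fun a => ?_))
    show F (φ (algebraMap _ B₁ (Ideal.Quotient.mk I a))) = γ (b₁ a)
    rw [hφ, ← hψp]
    exact (hF (a ^ p)).trans (by rw [map_pow, map_pow])
  · show F.comp p₂ (x i) = c i
    rw [hFp]
    exact hψx i
  · have hGp : G.comp p₂ = ψ := huniq _ ⟨by rw [RingHom.comp_assoc, ← hcomm, ← RingHom.comp_assoc, hG], hGx⟩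
    refine IsLocalization.ringHom_ext (Submonoid.powers (Ideal.Quotient.mk J (f ^ p)))
      (Ideal.Quotient.ringHom_ext (RingHom.ext fun a => ?_))
    show G (b₂ a) = F (b₂ a)
    rw [hF, ← hp₂, ← hGp]
    rfl

/-- A root extraction on the rings of a basic open and its preimage gives a tower there. -/
theorem exists_tower_at (p : ℕ) (R₁ R₂ : CommRingCat.{u}) (g : R₁ ⟶ R₂) (f₁ : R₁) (n : ℕ)
    (h : ∀ (B₁ B₂ : Type u) [CommRing B₁] [CommRing B₂] [Algebra R₁ B₁] [Algebra R₂ B₂]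
      [IsLocalization.Away f₁ B₁] [IsLocalization.Away (g f₁) B₂] (φ : B₁ →+* B₂),
      (∀ a : R₁, φ (algebraMap R₁ B₁ a) = algebraMap R₂ B₂ (g a)) →
        ∃ (x : Fin n → B₁) (y : Fin n → B₂), Quiet29.IsRootExt p φ x y)
    (P : PrimeSpectrum R₁) (hf : f₁ ∉ P.asIdeal) :
    ∃ U : (Spec R₁).affineOpens, P ∈ U.1 ∧ IsAffineOpen (Spec.map g ⁻¹ᵁ U.1) ∧
      letI := ((Spec.map g).app U.1).hom.toAlgebra
      ∃ n : ℕ, Quiet.IsRootTower p n Γ(Spec R₁, U.1) Γ(Spec R₂, Spec.map g ⁻¹ᵁ U.1) := by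
  let U : (Spec R₁).Opens := PrimeSpectrum.basicOpen f₁
  let V : (Spec R₂).Opens := Spec.map g ⁻¹ᵁ U
  have hV : V = PrimeSpectrum.basicOpen (g f₁) := rfl
  have hVaff : IsAffineOpen V := hV ▸ IsAffineOpen.Spec_basicOpen (R := R₂) (g f₁)
  refine ⟨⟨U, IsAffineOpen.Spec_basicOpen (R := R₁) f₁⟩, hf, hVaff, n, ?_⟩
  have : IsLocalization.Away (g f₁) Γ(Spec R₂, V) := by rw [hV]; infer_instance
  have : IsLocalization.Away f₁ Γ(Spec R₁, U) := inferInstance
  have hnat : ∀ a : R₁, ((Spec.map g).app U).hom (algebraMap R₁ Γ(Spec R₁, U) a) =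
      algebraMap R₂ Γ(Spec R₂, V) (g a) := fun a => by
    have h : ((Scheme.ΓSpecIso R₁).inv ≫ (Spec R₁).presheaf.map (homOfLE le_top).op) ≫ (Spec.map g).app U =
        g ≫ (Scheme.ΓSpecIso R₂).inv ≫ (Spec R₂).presheaf.map (homOfLE (le_top : V ≤ ⊤)).op := by
      rw [Category.assoc, (Spec.map g).naturality, show (Spec.map g).app ⊤ = (Spec.map g).appTop from rfl]
      erw [← Scheme.ΓSpecIso_inv_naturality_assoc]
      rfl
    exact ConcreteCategory.congr_hom h a
  let := ((Spec.map g).app U).hom.toAlgebra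
  obtain ⟨x, y, hxy⟩ := h Γ(Spec R₁, U) Γ(Spec R₂, V) ((Spec.map g).app U).hom hnat
  exact Quiet29.isRootTower_of_isRootExt p n _ _ x y hxy

/-- The quotient of Frobenius is an extraction of roots if Frobenius is one locally. -/
theorem isPthRoot_quotientMap (p : ℕ) [Fact p.Prime] (R : Type u) [CommRing R] [CharP R p] (I : Ideal R)
    (hloc : ∀ P : PrimeSpectrum R, ∃ f : R, f ∉ P.asIdeal ∧ ∃ _ : CharP (Localization.Away f) p,
      ∃ (n : ℕ) (x : Fin n → Localization.Away f), Quiet29.IsRootExt p (frobenius (Localization.Away f) p) x x) :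
    Quiet.IsPthRoot p (Spec.map (CommRingCat.ofHom
      (Ideal.quotientMap (I.map (frobenius R p)) (frobenius R p) Ideal.le_comap_map))) := by
  intro P
  obtain ⟨f, hf, hfc, n, x, hx⟩ := hloc (PrimeSpectrum.comap (Ideal.Quotient.mk I) P)
  refine exists_tower_at p (CommRingCat.of (R ⧸ I)) (CommRingCat.of (R ⧸ I.map (frobenius R p))) _
    (Ideal.Quotient.mk I f) n (fun B₁ B₂ _ _ i₁ i₂ l₁ l₂ φ hφ => ?_) P hf
  exact @isRootExt_quot p _ R _ _ I f _ n x hx B₁ B₂ _ _ i₁ i₂ l₁ l₂ φ fun a => hφ (Ideal.Quotient.mk I a)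

/-- The map induced on quotients by a faithfully flat map is faithfully flat. -/
theorem faithfullyFlat_quotientMap {R S : Type u} [CommRing R] [CommRing S] (φ : R →+* S)
    (hφ : φ.FaithfullyFlat) (I : Ideal R) :
    (Ideal.quotientMap (I.map φ) φ Ideal.le_comap_map).FaithfullyFlat := by
  letI := φ.toAlgebra
  haveI : Module.FaithfullyFlat R S := hφ
  have h : (algebraMap (R ⧸ I) ((R ⧸ I) ⊗[R] S)).FaithfullyFlat :=
    RingHom.faithfullyFlat_algebraMap_iff.2 inferInstance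
  let e : (R ⧸ I) ⊗[R] S ≃+* S ⧸ I.map φ :=
    ((Algebra.TensorProduct.comm R (R ⧸ I) S).trans
      ((Algebra.TensorProduct.quotIdealMapEquivTensorQuot S I).symm.restrictScalars R)).toRingEquiv
  have he : e.toRingHom.comp (algebraMap (R ⧸ I) ((R ⧸ I) ⊗[R] S)) =
      Ideal.quotientMap (I.map φ) φ Ideal.le_comap_map :=
    Ideal.Quotient.ringHom_ext (RingHom.ext fun a => by
      show e ((Ideal.Quotient.mk I a) ⊗ₜ[R] (1 : S)) = Ideal.Quotient.mk (I.map φ) (φ a)
      rw [← e.eq_symm_apply]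
      show _ = (1 : R ⧸ I) ⊗ₜ[R] φ a
      rw [show Ideal.Quotient.mk I a = a • (1 : R ⧸ I) by rw [Algebra.smul_def, mul_one]; rfl,
        TensorProduct.smul_tmul, Algebra.smul_def, mul_one]
      rfl)
  rw [← he]
  exact RingHom.FaithfullyFlat.respectsIso.1 _ e h

/-- Regular sequences go to regular sequences under faithfully flat maps. -/
theorem isRegular_map {R S : Type u} [CommRing R] [CommRing S] (φ : R →+* S) (hφ : φ.FaithfullyFlat)
    {rs : List R} (h : RingTheory.Sequence.IsRegular R rs) : RingTheory.Sequence.IsRegular S (rs.map φ) := by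
  letI := φ.toAlgebra
  haveI : Module.FaithfullyFlat R S := hφ
  exact h.of_faithfullyFlat

end Groth.Agent.Quiet20
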